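import Cfsg.Agent.Lib.RigidGraph.Co2.PointChecks
import Cfsg.Agent.Lib.RigidGraph.Co2.Graphs
import Cfsg.Agent.Lib.RigidGraph.Co2.Nets
import Cfsg.Agent.Lib.RigidGraph.BitSets

/-! A generator moves the pairs and preserves the graph. -/

set_option autoImplicit false
set_option maxRecDepth 100000
set_option Elab.async false

namespace Cfsg.Agent.RigidGraph.Co2

theorem move1_ok : moveOK 2300 wordA wordB cols1 (nodes.getD 1 (0, 0)).1 = true := by decide +kernel

theorem net1_perm : allB (netPerm (nodes.getD 1 (0, 0)).1 net1) 2300 = true := by decide +kernel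

theorem net1_graph : allB (netRow 2300 graph (nodes.getD 1 (0, 0)).1 net1) 2300 = true := by decide +kernel

end Cfsg.Agent.RigidGraph.Co2
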