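import Cfsg.Agent.Lib.RigidGraph.Co2.Nodes.Perm0
import Cfsg.Agent.Lib.RigidGraph.Co2.Nodes.Perm1
import Cfsg.Agent.Lib.RigidGraph.Co2.Nodes.Perm2
import Cfsg.Agent.Lib.RigidGraph.Co2.Nodes.Perm3
import Cfsg.Agent.Lib.RigidGraph.Co2.Nodes.Perm4
import Cfsg.Agent.Lib.RigidGraph.Co2.Nodes.Perm5
import Cfsg.Agent.Lib.RigidGraph.Co2.Nodes.Perm6
import Cfsg.Agent.Lib.RigidGraph.Co2.Nodes.Perm7
import Cfsg.Agent.Lib.RigidGraph.Co2.Nodes.Perm8
import Cfsg.Agent.Lib.RigidGraph.Co2.Nodes.Perm9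
import Cfsg.Agent.Lib.RigidGraph.Co2.Nodes.Perm10
import Cfsg.Agent.Lib.RigidGraph.Co2.Nodes.Perm11
import Cfsg.Agent.Lib.RigidGraph.Co2.Nodes.Perm12
import Cfsg.Agent.Lib.RigidGraph.Co2.Nodes.Perm13
import Cfsg.Agent.Lib.RigidGraph.Co2.Nodes.Mul0
import Cfsg.Agent.Lib.RigidGraph.Co2.Nodes.Mul1
import Cfsg.Agent.Lib.RigidGraph.Co2.Nodes.Mul2
import Cfsg.Agent.Lib.RigidGraph.Co2.Nodes.Mul3
import Cfsg.Agent.Lib.RigidGraph.Co2.Nodes.Mul4
import Cfsg.Agent.Lib.RigidGraph.Co2.Nodes.Mul5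
import Cfsg.Agent.Lib.RigidGraph.Co2.Nodes.Mul6
import Cfsg.Agent.Lib.RigidGraph.Co2.Nodes.Mul7
import Cfsg.Agent.Lib.RigidGraph.Co2.Nodes.Mul8
import Cfsg.Agent.Lib.RigidGraph.Co2.Move0
import Cfsg.Agent.Lib.RigidGraph.Co2.Move1
import Cfsg.Agent.Lib.RigidGraph.Co2.ChainChecks

/-! The stabiliser of a minimal vector as a permutation group on 2300 pairs. -/

set_option autoImplicit false
set_option maxRecDepth 100000

namespace Cfsg.Agent.RigidGraph.Co2

open Cfsg Cfsg.Agent.LeechMod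

attribute [local irreducible] nodes nodes0 nodes1 nodes2 nodes3 nodes4 nodes5 nodes6 nodes7 nodes8 nodes9 nodes10
  nodes11 nodes12 nodes13 prog levels wordA wordB keyOrd mat0 mat1 cols0 cols1 rowsB graph permOf net0 net1

theorem lengths : nodes.length = 213 ∧ prog.length = 211 := by
  unfold nodes prog nodes0 nodes1 nodes2 nodes3 nodes4 nodes5 nodes6 nodes7 nodes8 nodes9 nodes10 nodes11 nodes12 nodes13
  exact ⟨rfl, rfl⟩

theorem slp_ok : slpOK 2300 nodes prog = true := by
  have hperm : nodes.all (permOK 2300) = true := by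
    unfold nodes
    simp only [List.all_flatten, List.all_cons, List.all_nil, perm0_ok, perm1_ok, perm2_ok, perm3_ok, perm4_ok,
      perm5_ok, perm6_ok, perm7_ok, perm8_ok, perm9_ok, perm10_ok, perm11_ok, perm12_ok, perm13_ok, Bool.and_true]
  rw [slpOK, hperm, lengths.1, lengths.2, Bool.and_eq_true, Bool.and_eq_true]
  refine ⟨⟨rfl, rfl⟩, allB_of_forall fun j hj => ?_⟩
  rcases (show (0 ≤ j ∧ j < 24) ∨ (24 ≤ j ∧ j < 48) ∨ (48 ≤ j ∧ j < 72) ∨ (72 ≤ j ∧ j < 96) ∨ (96 ≤ j ∧ j < 120) ∨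
      (120 ≤ j ∧ j < 144) ∨ (144 ≤ j ∧ j < 168) ∨ (168 ≤ j ∧ j < 192) ∨ (192 ≤ j ∧ j < 211) by omega) with
    h | h | h | h | h | h | h | h | h
  · exact List.all_eq_true.1 mul0_ok j (List.mem_range'_1.2 (by omega))
  · exact List.all_eq_true.1 mul1_ok j (List.mem_range'_1.2 (by omega))
  · exact List.all_eq_true.1 mul2_ok j (List.mem_range'_1.2 (by omega))
  · exact List.all_eq_true.1 mul3_ok j (List.mem_range'_1.2 (by omega))
  · exact List.all_eq_true.1 mul4_ok j (List.mem_range'_1.2 (by omega))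
  · exact List.all_eq_true.1 mul5_ok j (List.mem_range'_1.2 (by omega))
  · exact List.all_eq_true.1 mul6_ok j (List.mem_range'_1.2 (by omega))
  · exact List.all_eq_true.1 mul7_ok j (List.mem_range'_1.2 (by omega))
  · exact List.all_eq_true.1 mul8_ok j (List.mem_range'_1.2 (by omega))

/-- The group on the 2300 pairs. -/
noncomputable def co2Group : Subgroup (Equiv.Perm (Fin 2300)) := grp 2300 nodes

theorem gen_perm : permOK 2300 (nodes.getD 0 (0, 0)) = true ∧ permOK 2300 (nodes.getD 1 (0, 0)) = true :=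
  ⟨node_ok slp_ok (by rw [lengths.1]; norm_num), node_ok slp_ok (by rw [lengths.1]; norm_num)⟩

theorem co2Group_le : co2Group ≤ autG 2300 graph := by
  rw [co2Group, grp, Subgroup.closure_le, Set.insert_subset_iff, Set.singleton_subset_iff]
  exact ⟨net_aut_mem gen_perm.1 (fun _ hi => allB_spec net0_perm hi) fun _ hx => allB_spec net0_graph hx,
    net_aut_mem gen_perm.2 (fun _ hi => allB_spec net1_perm hi) fun _ hx => allB_spec net1_graph hx⟩

theorem levels_shape : (levels.map (·.k)).prod = 42305421312000 := by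
  unfold levels
  rfl

theorem le_card_co2Group : 42305421312000 ≤ Nat.card ↥co2Group := by
  have h := lows_card slp_ok levels [] lows_ok
  rw [fixList_nil, inf_top_eq, levels_shape] at h
  exact h

theorem levels_cons : ∃ L Ls, levels = L :: Ls ∧ L.k = 2300 := by
  unfold levels
  exact ⟨_, _, rfl, rfl⟩

instance pretransitive_co2Group : MulAction.IsPretransitive ↥co2Group (Fin 2300) := by
  obtain ⟨L, Ls, e, hk⟩ := levels_cons
  exact pretransitive_lows slp_ok (e ▸ lows_ok) hk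

/-- The two generators as automorphisms of the lattice, with their matrices. -/
theorem realised : ∃ g0 g1 : Co0, g0 • Spor.leechU = Spor.leechU ∧ g1 • Spor.leechU = Spor.leechU ∧
    (∀ v : leechLattice, ((g0 • v : leechLattice) : GolayPt → ℤ) = SporPerm.mapMat (SporPerm.toMat mat0) v) ∧
      ∀ v : leechLattice, ((g1 • v : leechLattice) : GolayPt → ℤ) = SporPerm.mapMat (SporPerm.toMat mat1) v := by
  have h := mats_ok
  simp only [Bool.and_eq_true] at h
  obtain ⟨⟨⟨h0, f0⟩, -⟩, ⟨h1, f1⟩, -⟩ := h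
  obtain ⟨g0, hg0, -⟩ := SporPerm.exists_of_matOK h0
  obtain ⟨g1, hg1, -⟩ := SporPerm.exists_of_matOK h1
  exact ⟨g0, g1, SporPerm.smul_eq_of_fixOK h0 f0 hg0 uWord_vec, SporPerm.smul_eq_of_fixOK h1 f1 hg1 uWord_vec,
    hg0, hg1⟩

theorem mem_moved {M : List (List ℤ)} {C : List ℤ} (hs : SporPerm.shapeOK M = true) (hC : colsOK M C = true)
    {e : Elt} (he : permOK 2300 e = true) (hmove : moveOK 2300 wordA wordB C e.1 = true) {g : Co0}
    (hg : ∀ v : leechLattice, ((g • v : leechLattice) : GolayPt → ℤ) = SporPerm.mapMat (SporPerm.toMat M) v)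
    {i : Fin 2300} (hi : vA wordA i ∈ leechLattice) : vA wordA (permOf 2300 e i : Fin 2300) ∈ leechLattice := by
  have hgm : SporPerm.mapMat (SporPerm.toMat M) (vA wordA i) ∈ leechLattice := hg ⟨_, hi⟩ ▸ (g • _ : leechLattice).2
  have h := allB_spec hmove i.2
  simp only [Bool.or_eq_true] at h
  rw [permOf_val he]
  rcases h with h | h <;> rw [vA, mapMat_vecW hs hC h] at hgm
  · exact hgm
  · have hB := pair_add (allB_spec pairs_ok (permOK_spec he i.2).1)
    rw [vA, eq_sub_of_add_eq hB]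
    exact leechLattice.sub_mem Spor.leechU.2 hgm

theorem vA_mem : ∀ i < 2300, vA wordA i ∈ leechLattice := by
  obtain ⟨g0, g1, -, -, hg0, hg1⟩ := realised
  have h := mats_ok
  simp only [Bool.and_eq_true] at h
  obtain ⟨⟨⟨h0, -⟩, c0⟩, ⟨h1, -⟩, c1⟩ := h
  have s0 : SporPerm.shapeOK mat0 = true := by simp only [SporPerm.matOK, Bool.and_eq_true] at h0; exact h0.1.1.1
  have s1 : SporPerm.shapeOK mat1 = true := by simp only [SporPerm.matOK, Bool.and_eq_true] at h1; exact h1.1.1.1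
  let K : Submonoid (Equiv.Perm (Fin 2300)) :=
    { carrier := {σ | ∀ i : Fin 2300, vA wordA i ∈ leechLattice → vA wordA (σ i : Fin 2300) ∈ leechLattice}
      one_mem' := fun _ hi => hi
      mul_mem' := fun ha hb i hi => ha _ (hb i hi) }
  have hK : co2Group.toSubmonoid ≤ K := by
    rw [co2Group, grp, Subgroup.closure_toSubmonoid_of_finite, Submonoid.closure_le]
    rintro σ (rfl | hσ)
    · exact fun i hi => mem_moved s0 c0 gen_perm.1 move0_ok hg0 hi
    · rw [Set.mem_singleton_iff.1 hσ]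
      exact fun i hi => mem_moved s1 c1 gen_perm.2 move1_ok hg1 hi
  intro i hi
  obtain ⟨g, hg⟩ := MulAction.exists_smul_eq ↥co2Group (⟨0, by norm_num⟩ : Fin 2300) ⟨i, hi⟩
  have := hK g.2 ⟨0, by norm_num⟩ (mem_of_inLB base_mem_ok)
  rwa [show (g : Equiv.Perm (Fin 2300)) ⟨0, by norm_num⟩ = ⟨i, hi⟩ from hg] at this

theorem co2_model : Nat.card ↥co2Group = 42305421312000 ∧ Nonempty (↥Spor.Co2 ≃* ↥co2Group) := by
  set G : Subgroup Co0 := MulAction.stabilizer Co0 Spor.leechU with hG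
  have hcard : Nat.card G = 42305421312000 := by
    rw [Nat.card_congr Leech.sporCo2Equiv.toEquiv]; exact Leech.isCo2_spor.2
  haveI : Finite G := Nat.finite_of_card_ne_zero (by rw [hcard]; norm_num)
  have hpairs : ∀ i < 2300, pairOK (wordA.get i) (wordB.get i) = true := fun i hi => allB_spec pairs_ok hi
  let K : Subgroup (Co0 × Equiv.Perm (Fin 2300)) := pairRel 2300 wordA ⊓ G.comap (MonoidHom.fst _ _)
  let f : K →* G := ((MonoidHom.fst _ _).comp K.subtype).codRestrict G fun k => k.2.2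
  let s : K →* Equiv.Perm (Fin 2300) := (MonoidHom.snd _ _).comp K.subtype
  have hf : Function.Injective f := (injective_iff_map_eq_one f).2 fun k hk => by
    have h1 : k.1.1 = 1 := congrArg Subtype.val hk
    have h2 : k.1 ∈ pairRel 2300 wordA := k.2.1
    rw [show k.1 = (1, k.1.2) from Prod.ext h1 rfl] at h2
    exact Subtype.ext (Prod.ext h1 (pair_unique hpairs keys_ok vA_mem h2))
  haveI : Finite K := Finite.of_injective f hf
  have hle : co2Group ≤ s.range := by
    obtain ⟨g0, g1, u0, u1, hg0, hg1⟩ := realised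
    have h := mats_ok
    simp only [Bool.and_eq_true] at h
    obtain ⟨⟨⟨h0, -⟩, c0⟩, ⟨h1, -⟩, c1⟩ := h
    have s0 : SporPerm.shapeOK mat0 = true := by simp only [SporPerm.matOK, Bool.and_eq_true] at h0; exact h0.1.1.1
    have s1 : SporPerm.shapeOK mat1 = true := by simp only [SporPerm.matOK, Bool.and_eq_true] at h1; exact h1.1.1.1
    rw [co2Group, grp, Subgroup.closure_le, Set.insert_subset_iff, Set.singleton_subset_iff]
    exact ⟨⟨⟨_, mem_pairRel gen_perm.1 hpairs vA_mem s0 c0 move0_ok hg0 u0, u0⟩, rfl⟩,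
      ⟨⟨_, mem_pairRel gen_perm.2 hpairs vA_mem s1 c1 move1_ok hg1 u1, u1⟩, rfl⟩⟩
  have h1 : Nat.card K ≤ Nat.card G := Nat.card_le_card_of_injective f hf
  have h2 : Nat.card ↥co2Group ≤ Nat.card s.range := Subgroup.card_le_of_le hle
  have h3 : Nat.card s.range ≤ Nat.card K := Nat.card_le_card_of_surjective _ s.rangeRestrict_surjective
  have h4 := le_card_co2Group
  refine ⟨by omega, ?_⟩
  have e1 : co2Group = s.range := Subgroup.eq_of_le_of_card_ge hle (by omega)
  have bf : Function.Bijective f := (Nat.bijective_iff_injective_and_card f).2 ⟨hf, by omega⟩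
  have bs : Function.Bijective s.rangeRestrict :=
    (Nat.bijective_iff_surjective_and_card _).2 ⟨s.rangeRestrict_surjective, by omega⟩
  exact ⟨Leech.sporCo2Equiv.symm.trans ((MulEquiv.ofBijective f bf).symm.trans
    ((MulEquiv.ofBijective s.rangeRestrict bs).trans (MulEquiv.subgroupCongr e1.symm)))⟩

theorem card_co2Group : Nat.card ↥co2Group = 42305421312000 := co2_model.1

end Cfsg.Agent.RigidGraph.Co2
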