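import Cfsg.Agent.Lib.SporPerm.Realise
import Cfsg.Agent.Lib.RigidGraph.Basic

/-!
Lattice vectors with small coordinates packed four bits to a coordinate, and a test that a matrix sends one to
another by a single linear combination of packed columns.
-/

set_option autoImplicit false

namespace Cfsg.Agent.RigidGraph.Co2

open Cfsg Cfsg.Agent.Golay Cfsg.Agent.LeechMod Cfsg.Agent.SporPerm

/-- Four bits. -/
def nib (w j : ℕ) : ℕ := Nat.land (Nat.shiftRight w (Nat.mul 4 j)) 15

/-- The coordinates. -/
def vecW (w : ℕ) : List ℤ := (List.range 24).map fun j => Int.subNatNat (nib w j) 8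

/-- Numbers packed sixteen bits apart. -/
def packL : List ℤ → ℤ
  | [] => 0
  | a :: l => a + 65536 * packL l

/-- Equality of integers for the kernel. -/
def eqZ : ℤ → ℤ → Bool
  | Int.ofNat a, Int.ofNat b => Nat.beq a b
  | Int.negSucc a, Int.negSucc b => Nat.beq a b
  | _, _ => false

theorem eqZ_eq : ∀ {a b : ℤ}, eqZ a b = true → a = b
  | Int.ofNat a, Int.ofNat b, h => congrArg Int.ofNat (Nat.eq_of_beq_eq_true h)
  | Int.negSucc a, Int.negSucc b, h => congrArg Int.negSucc (Nat.eq_of_beq_eq_true h)
  | Int.ofNat _, Int.negSucc _, h => Bool.noConfusion h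
  | Int.negSucc _, Int.ofNat _, h => Bool.noConfusion h

theorem vecW_length (w : ℕ) : (vecW w).length = 24 := by simp [vecW]

theorem nib_lt (w j : ℕ) : nib w j < 16 := Nat.lt_succ_of_le Nat.and_le_right

theorem vecW_bound {w : ℕ} {x : ℤ} (hx : x ∈ vecW w) : |x| ≤ 8 := by
  obtain ⟨j, -, rfl⟩ := List.mem_map.1 hx
  have := nib_lt w j
  rw [Int.subNatNat_eq_coe, abs_le]
  omega

theorem packL_inj : ∀ {a b : List ℤ}, a.length = b.length → (∀ x ∈ a, |x| < 32768) → (∀ x ∈ b, |x| < 32768) →
    packL a = packL b → a = b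
  | [], [], _, _, _, _ => rfl
  | a :: as, b :: bs, hl, ha, hb, h => by
    have h1 := abs_lt.1 (ha a List.mem_cons_self)
    have h2 := abs_lt.1 (hb b List.mem_cons_self)
    simp only [packL] at h
    rw [show a = b by omega, packL_inj (Nat.succ.inj hl) (fun x hx => ha x (List.mem_cons_of_mem _ hx))
      (fun x hx => hb x (List.mem_cons_of_mem _ hx)) (by omega)]

theorem rowDot_bound {c : ℤ} (hc : 0 ≤ c) : ∀ {r x : List ℤ}, (∀ a ∈ r, ∀ b ∈ x, |a * b| ≤ c) →
    |rowDot r x| ≤ r.length * c
  | [], x, _ => by simp [rowDot]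
  | a :: as, [], _ => by simp [rowDot]; positivity
  | a :: as, b :: bs, h => by
    have h1 := h a List.mem_cons_self b List.mem_cons_self
    have h2 := rowDot_bound hc (r := as) (x := bs)
      (fun a' ha b' hb => h a' (List.mem_cons_of_mem _ ha) b' (List.mem_cons_of_mem _ hb))
    simp only [rowDot, List.length_cons, Nat.cast_add, Nat.cast_one]
    exact (abs_add_le _ _).trans (by linarith)

/-- The packed columns of a matrix. -/
def colPacks (M : List (List ℤ)) (m : ℕ) : List ℤ := (List.range m).map fun j => packL (M.map fun r => r.getD j 0)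

theorem rowDot_colPacks {m : ℕ} {x : List ℤ} (hx : x.length = m) : ∀ {M : List (List ℤ)},
    (∀ r ∈ M, r.length = m) → rowDot (colPacks M m) x = packL (M.map fun r => rowDot r x)
  | [], _ => by
    rw [rowDot_eq m _ _ (by simp [colPacks]) hx]
    refine Finset.sum_eq_zero fun k hk => ?_
    rw [colPacks, getD_map_range _ (Finset.mem_range.1 hk)]
    simp [packL]
  | r :: M, hM => by
    have ih := rowDot_colPacks hx (M := M) fun r' hr' => hM r' (List.mem_cons_of_mem _ hr')
    rw [List.map_cons, packL, ← ih, rowDot_eq m r x (hM r List.mem_cons_self) hx,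
      rowDot_eq m _ x (by simp [colPacks]) hx, rowDot_eq m _ x (by simp [colPacks]) hx, Finset.mul_sum,
      ← Finset.sum_add_distrib]
    refine Finset.sum_congr rfl fun k hk => ?_
    rw [colPacks, getD_map_range _ (Finset.mem_range.1 hk), colPacks, getD_map_range _ (Finset.mem_range.1 hk),
      List.map_cons, packL]
    ring

/-- Small entries and the right packed columns. -/
def colsOK (M : List (List ℤ)) (C : List ℤ) : Bool :=
  eqV C (colPacks M 24) && M.all fun r => r.all fun a => Nat.ble a.natAbs 8

/-- The matrix sends `w` to `w'`. -/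
def imgW (C : List ℤ) (w w' : ℕ) : Bool := eqZ (rowDot C (vecW w)) (8 * packL (vecW w'))

theorem mapMat_vecW {M : List (List ℤ)} {C : List ℤ} {w w' : ℕ} (hs : shapeOK M = true) (hC : colsOK M C = true)
    (h : imgW C w w' = true) : mapMat (toMat M) (toVec (vecW w)) = toVec (vecW w') := by
  simp only [colsOK, Bool.and_eq_true, eqV_iff, List.all_eq_true, Nat.ble_eq] at hC
  have hs' := hs
  simp only [shapeOK, Bool.and_eq_true, Nat.beq_eq, List.all_eq_true] at hs'
  have h1 := eqZ_eq h
  rw [hC.1, rowDot_colPacks (vecW_length w) hs'.2] at h1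
  have h2 : M.map (fun r => rowDot r (vecW w)) = (vecW w').map (8 * ·) := by
    refine packL_inj (by simp [vecW_length, hs'.1]) ?_ ?_ (h1.trans ?_)
    · intro y hy
      obtain ⟨r, hr, rfl⟩ := List.mem_map.1 hy
      refine lt_of_le_of_lt (rowDot_bound (c := 64) (by norm_num) fun a ha b hb => ?_) (by rw [hs'.2 r hr]; norm_num)
      rw [abs_mul]
      have : |a| ≤ 8 := by rw [Int.abs_eq_natAbs]; exact_mod_cast hC.2 r hr a ha
      nlinarith [abs_nonneg a, abs_nonneg b, vecW_bound hb]
    · intro y hy
      obtain ⟨b, hb, rfl⟩ := List.mem_map.1 hy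
      have := abs_le.1 (vecW_bound hb)
      rw [abs_lt]; omega
    · have : ∀ l : List ℤ, 8 * packL l = packL (l.map (8 * ·)) := by
        intro l
        induction l with
        | nil => rfl
        | cons a l ih => simp only [List.map_cons, packL, ← ih]; ring
      exact this _
  rw [mapMat_toVec hs (vecW_length w)]
  congr 1
  calc M.map (fun r => rowDot r (vecW w) / 8) = (M.map fun r => rowDot r (vecW w)).map (· / 8) := by
        rw [List.map_map]; rfl
    _ = vecW w' := by
        rw [h2, List.map_map, show ((fun x : ℤ => x / 8) ∘ fun x : ℤ => 8 * x) = id from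
          funext fun x => Int.mul_ediv_cancel_left x (by norm_num), List.map_id]

theorem vecW_inj {w w' : ℕ} (hw : w < 2 ^ 96) (hw' : w' < 2 ^ 96) (h : vecW w = vecW w') : w = w' := by
  refine Nat.eq_of_testBit_eq fun i => ?_
  by_cases hi : i < 96
  · have h1 := congrArg (fun l => l.getD (i / 4) 0) h
    simp only [vecW] at h1
    rw [getD_map_range _ (by omega : i / 4 < 24), getD_map_range _ (by omega : i / 4 < 24)] at h1
    have h2 : nib w (i / 4) = nib w' (i / 4) := by
      rw [Int.subNatNat_eq_coe, Int.subNatNat_eq_coe] at h1; omega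
    have key : ∀ v, (nib v (i / 4)).testBit (i % 4) = v.testBit i := fun v => by
      show ((v >>> (4 * (i / 4))) &&& 15).testBit (i % 4) = _
      rw [show (15 : ℕ) = 2 ^ 4 - 1 from rfl, Nat.testBit_and, Nat.testBit_two_pow_sub_one,
        decide_eq_true (Nat.mod_lt i (by norm_num : 4 > 0)), Bool.and_true, Nat.testBit_shiftRight, Nat.div_add_mod]
    rw [← key w, ← key w', h2]
  · have hp : ∀ v < 2 ^ 96, v.testBit i = false := fun v hv =>
      Nat.testBit_lt_two_pow (hv.trans_le (Nat.pow_le_pow_right (by norm_num) (by omega)))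
    rw [hp w hw, hp w' hw']

theorem toVec_vecW_inj {w w' : ℕ} (hw : w < 2 ^ 96) (hw' : w' < 2 ^ 96)
    (h : toVec (vecW w) = toVec (vecW w')) : w = w' :=
  vecW_inj hw hw' (toVec_inj (vecW_length w) (vecW_length w') h)

end Cfsg.Agent.RigidGraph.Co2
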