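import Cfsg.Agent.Lib.RigidGraph.Co2.Packed
import Cfsg.Agent.Lib.RigidGraph.Main
import Cfsg.Agent.Lib.Leech.SporGroups

/-!
Pairs of lattice vectors with a fixed sum: automorphisms fixing the sum and the permutations they induce, and a
chain of orbits bounding the order of a permutation group from below.
-/

set_option autoImplicit false

namespace Cfsg.Agent.RigidGraph.Co2

open Cfsg Cfsg.Agent.Golay Cfsg.Agent.LeechMod Cfsg.Agent.SporPerm

/-- The fixed vector, packed. -/
def uWord : ℕ := 0xC8888888888888888888888C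

theorem uWord_vec : ((Spor.leechU : leechLattice) : GolayPt → ℤ) = toVec (vecW uWord) := by
  funext p; revert p; decide +kernel

/-- Both words are short and their vectors add up to the fixed one. -/
def pairOK (a b : ℕ) : Bool :=
  Nat.blt a (2 ^ 96) && Nat.blt b (2 ^ 96) && eqZ (packL (vecW a) + packL (vecW b)) (packL (vecW uWord))

/-- Key number `k` among all the vectors. -/
noncomputable def keyW (A B : Trie) (k : ℕ) : ℕ := bif Nat.beq (k % 2) 0 then A.get (k / 2) else B.get (k / 2)

/-- All vectors are different. -/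
noncomputable def keysOK (n : ℕ) (A B : Trie) (ord : List ℕ) : Bool :=
  Nat.beq ord.length (2 * n) && ord.all (fun k => Nat.blt k (2 * n)) && incOK (keyW A B) ord

/-- A matrix moves the pairs as a permutation does. -/
noncomputable def moveOK (n : ℕ) (A B : Trie) (C : List ℤ) (e : ℕ) : Bool :=
  allB (fun i => imgW C (A.get i) (A.get (slot e i)) || imgW C (A.get i) (B.get (slot e i))) n

variable {n : ℕ} {A B : Trie}

theorem keys_inj {ord : List ℕ} (h : keysOK n A B ord = true) {a b : ℕ} (ha : a < 2 * n) (hb : b < 2 * n)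
    (e : keyW A B a = keyW A B b) : a = b := by
  simp only [keysOK, Bool.and_eq_true, Nat.beq_eq, List.all_eq_true, Nat.blt_eq] at h
  obtain ⟨⟨hlen, hlt⟩, hinc⟩ := h
  have hp := incOK_pairwise hinc
  have hnd : ord.Nodup := hp.imp fun {x y} hxy => fun he => by rw [he] at hxy; exact lt_irrefl _ hxy
  have hall : ∀ k < 2 * n, k ∈ ord := by
    intro k hk
    have : ord.toFinset = Finset.range (2 * n) :=
      Finset.eq_of_subset_of_card_le (fun x hx => Finset.mem_range.2 (hlt x (List.mem_toFinset.1 hx)))
        (by rw [List.toFinset_card_of_nodup hnd, hlen, Finset.card_range])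
    exact List.mem_toFinset.1 (this ▸ Finset.mem_range.2 hk)
  obtain ⟨i, hi, rfl⟩ := List.mem_iff_getElem.1 (hall a ha)
  obtain ⟨j, hj, rfl⟩ := List.mem_iff_getElem.1 (hall b hb)
  rcases lt_trichotomy i j with h1 | h1 | h1
  · exact absurd e (List.pairwise_iff_getElem.1 hp i j hi hj h1).ne
  · subst h1; rfl
  · exact absurd e (List.pairwise_iff_getElem.1 hp j i hj hi h1).ne'

/-- The first vector of a pair. -/
noncomputable def vA (A : Trie) (i : ℕ) : GolayPt → ℤ := toVec (vecW (A.get i))

theorem pair_add {a b : ℕ} (h : pairOK a b = true) :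
    toVec (vecW a) + toVec (vecW b) = ((Spor.leechU : leechLattice) : GolayPt → ℤ) := by
  simp only [pairOK, Bool.and_eq_true, Nat.blt_eq] at h
  have e := eqZ_eq h.2
  set s := (List.range 24).map fun j => (vecW a).getD j 0 + (vecW b).getD j 0 with hs
  have hlin : ∀ (m : ℕ) (f g : ℕ → ℤ), packL ((List.range m).map f) + packL ((List.range m).map g) =
      packL ((List.range m).map fun j => f j + g j) := by
    intro m
    induction m with
    | zero => intro f g; rfl
    | succ m ih =>
      intro f g
      simp only [List.range_succ_eq_map, List.map_cons, List.map_map, packL, Function.comp_def, ← ih]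
      ring
  have hv : ∀ w, vecW w = (List.range 24).map fun j => (vecW w).getD j 0 := fun w => by
    refine List.map_congr_left fun j hj => ?_
    rw [vecW, getD_map_range _ (List.mem_range.1 hj)]
  have hmem : ∀ w j, j < 24 → (vecW w).getD j 0 ∈ vecW w := fun w j hj => by
    rw [List.getD_eq_getElem _ _ (by rw [vecW_length]; exact hj)]; exact List.getElem_mem _
  rw [hv a, hv b, hlin, ← hs] at e
  have hs' : s = vecW uWord := by
    refine packL_inj (by simp [hs, vecW_length]) (fun x hx => ?_) (fun x hx => ?_) e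
    · obtain ⟨j, hj, rfl⟩ := List.mem_map.1 hx
      have h1 := abs_le.1 (vecW_bound (hmem a j (List.mem_range.1 hj)))
      have h2 := abs_le.1 (vecW_bound (hmem b j (List.mem_range.1 hj)))
      rw [abs_lt]; omega
    · have := abs_le.1 (vecW_bound hx); rw [abs_lt]; omega
  rw [uWord_vec, ← hs']
  funext p
  simp only [toVec, Pi.add_apply, hs]
  rw [getD_map_range _ (idx_lt p)]

variable (n A)

/-- The vectors of a pair. -/
noncomputable def pairSet (i : Fin n) : Set leechLattice :=
  {x | (x : GolayPt → ℤ) = vA A i ∨ (x : GolayPt → ℤ) = ((Spor.leechU : leechLattice) : GolayPt → ℤ) - vA A i}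

/-- Automorphisms with the permutations they induce on the pairs. -/
noncomputable def pairRel : Subgroup (Co0 × Equiv.Perm (Fin n)) where
  carrier := {q | ∀ i x, x ∈ pairSet n A i ↔ q.1 • x ∈ pairSet n A (q.2 i)}
  one_mem' i x := by simp
  mul_mem' {p q} hp hq i x := by
    rw [hq i x, hp (q.2 i) (q.1 • x), Prod.fst_mul, Prod.snd_mul, Equiv.Perm.mul_apply, mul_smul]
  inv_mem' {p} hp i x := by
    rw [Prod.fst_inv, Prod.snd_inv, hp (p.2⁻¹ i) (p.1⁻¹ • x), smul_inv_smul, Equiv.Perm.inv_def,
      Equiv.apply_symm_apply]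

variable {n A}

theorem mem_pairRel {e : Elt} (he : permOK n e = true) (hpair : ∀ i < n, pairOK (A.get i) (B.get i) = true)
    (hmem : ∀ i < n, vA A i ∈ leechLattice)
    {M : List (List ℤ)} {C : List ℤ} (hs : shapeOK M = true) (hC : colsOK M C = true)
    (hmove : moveOK n A B C e.1 = true) {g : Co0}
    (hg : ∀ v : leechLattice, ((g • v : leechLattice) : GolayPt → ℤ) = mapMat (toMat M) v)
    (hgu : g • Spor.leechU = Spor.leechU) :
    ((g, permOf n e) : Co0 × Equiv.Perm (Fin n)) ∈ pairRel n A := by
  have hB : ∀ i < n, toVec (vecW (B.get i)) = ((Spor.leechU : leechLattice) : GolayPt → ℤ) - vA A i :=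
    fun i hi => eq_sub_of_add_eq' (pair_add (hpair i hi))
  intro i x
  set a : leechLattice := ⟨vA A i, hmem i i.2⟩
  set a' : leechLattice := ⟨vA A (permOf n e i : Fin n), hmem _ (permOf n e i).2⟩
  have hset : ∀ (j : Fin n) (y : leechLattice), y ∈ pairSet n A j ↔
      y = ⟨vA A j, hmem j j.2⟩ ∨ y = Spor.leechU - ⟨vA A j, hmem j j.2⟩ := fun j y => by
    simp only [Subtype.ext_iff, AddSubgroup.coe_sub]
    exact Iff.rfl
  have hga : g • a = a' ∨ g • a = Spor.leechU - a' := by
    have h := allB_spec hmove i.2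
    simp only [Bool.or_eq_true] at h
    rcases h with h | h
    · left
      refine Subtype.ext ?_
      rw [hg]
      show mapMat (toMat M) (vA A i) = vA A (permOf n e i : Fin n)
      rw [vA, mapMat_vecW hs hC h, vA, permOf_val he]
    · right
      refine Subtype.ext ?_
      rw [hg, AddSubgroup.coe_sub]
      show mapMat (toMat M) (vA A i) = _ - vA A (permOf n e i : Fin n)
      rw [vA, mapMat_vecW hs hC h, permOf_val he]
      exact hB _ (permOf_val he i ▸ (permOf n e i).2)
  have hsub : ∀ y : leechLattice, g • (Spor.leechU - y) = Spor.leechU - g • y := fun y => by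
    have h2 := congrArg (g • ·) (sub_add_cancel Spor.leechU y)
    simp only [Leech.co0_add, hgu] at h2
    exact eq_sub_of_add_eq h2
  rw [hset, hset]
  show _ ↔ g • x = a' ∨ g • x = Spor.leechU - a'
  rcases hga with h | h
  · rw [← h, ← hsub, smul_left_cancel_iff, smul_left_cancel_iff]
  · have h' : g • (Spor.leechU - a) = a' := by rw [hsub, h, sub_sub_cancel]
    rw [← h, ← h', smul_left_cancel_iff, smul_left_cancel_iff]
    exact or_comm

theorem pair_unique (hpair : ∀ i < n, pairOK (A.get i) (B.get i) = true)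
    {ord : List ℕ} (hk : keysOK n A B ord = true) (hmem : ∀ i < n, vA A i ∈ leechLattice)
    {π : Equiv.Perm (Fin n)} (h : ((1, π) : Co0 × Equiv.Perm (Fin n)) ∈ pairRel n A) : π = 1 := by
  refine Equiv.ext fun i => ?_
  have h1 := (h i ⟨vA A i, hmem i i.2⟩).1 (Or.inl rfl)
  simp only [one_smul] at h1
  set j := π i
  have hlt : ∀ i < n, A.get i < 2 ^ 96 ∧ B.get i < 2 ^ 96 := fun i hi => by
    have := hpair i hi
    simp only [pairOK, Bool.and_eq_true, Nat.blt_eq] at this
    exact this.1
  have hi := i.2
  have hj := j.2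
  rcases h1 with h1 | h1
  · have e := toVec_vecW_inj (hlt i i.2).1 (hlt j j.2).1 h1
    have := keys_inj hk (a := 2 * i) (b := 2 * j) (by omega) (by omega) (by simp [keyW, e])
    exact Fin.ext (by simp only [Equiv.Perm.one_apply]; omega)
  · have e := toVec_vecW_inj (hlt i i.2).1 (hlt j j.2).2
      (h1.trans (eq_sub_of_add_eq' (pair_add (hpair j j.2))).symm)
    have := keys_inj hk (a := 2 * i) (b := 2 * j + 1) (by omega) (by omega) (by
      simp only [keyW, show 2 * (i : ℕ) % 2 = 0 by omega, show (2 * (j : ℕ) + 1) % 2 = 1 by omega,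
        show 2 * (i : ℕ) / 2 = i by omega, show (2 * (j : ℕ) + 1) / 2 = j by omega, e]
      rfl)
    omega

/-! ### Lower bound of the order -/

/-- A level. -/
structure LowLevel where
  t : ℕ
  k : ℕ
  gens : List ℕ
  tree : List (ℕ × ℕ)

/-- Check the levels. -/
noncomputable def lowsOK (n : ℕ) (nodes : List Elt) : List ℕ → List LowLevel → Bool
  | _, [] => true
  | bs, L :: Ls =>
    Nat.blt L.t n &&
      L.gens.all (fun g => Nat.blt (g / 2) nodes.length &&
        bs.all fun b => Nat.beq (slot (getN nodes g).1 b) b) &&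
      orbitOK (L.gens.map (getN nodes)) L.t L.tree L.k && lowsOK n nodes (bs ++ [L.t]) Ls

theorem lows_card {nodes : List Elt} {prog : List (ℕ × ℕ)} (hn : slpOK n nodes prog = true) :
    ∀ (Ls : List LowLevel) (bs : List ℕ), lowsOK n nodes bs Ls = true →
      (Ls.map (·.k)).prod ≤ Nat.card ↥(grp n nodes ⊓ fixList n bs) := by
  intro Ls
  induction Ls with
  | nil =>
    intro bs _
    simp only [List.map_nil, List.prod_nil]
    exact Nat.card_pos
  | cons L Ls ih =>
    intro bs h
    simp only [lowsOK, Bool.and_eq_true, Nat.blt_eq] at h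
    obtain ⟨⟨⟨ht, hgens⟩, horb⟩, hrest⟩ := h
    have hgs : ∀ e ∈ L.gens.map (getN nodes), permOK n e = true ∧ permOf n e ∈ grp n nodes ⊓ fixList n bs := by
      intro e he
      obtain ⟨g, hg, rfl⟩ := List.mem_map.1 he
      have := List.all_eq_true.1 hgens g hg
      simp only [Bool.and_eq_true, List.all_eq_true, Nat.blt_eq, Nat.beq_eq] at this
      exact ⟨getN_ok hn this.1, getN_mem hn this.1, fun i hi => Fin.ext
        ((permOf_val (getN_ok hn this.1) i).trans (this.2 i hi))⟩
    rw [List.map_cons, List.prod_cons, card_split (grp n nodes) bs ⟨L.t, ht⟩]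
    exact Nat.mul_le_mul (orbitOK_le _ hgs ht horb) (ih _ hrest)

theorem pretransitive_lows [NeZero n] {nodes : List Elt} {prog : List (ℕ × ℕ)} (hn : slpOK n nodes prog = true)
    {L : LowLevel} {Ls : List LowLevel} (hL : lowsOK n nodes [] (L :: Ls) = true) (hk : L.k = n) :
    MulAction.IsPretransitive ↥(grp n nodes) (Fin n) := by
  simp only [lowsOK, Bool.and_eq_true, Nat.blt_eq] at hL
  obtain ⟨⟨⟨ht, hgens⟩, horb⟩, -⟩ := hL
  have hgs : ∀ e ∈ L.gens.map (getN nodes), permOK n e = true ∧ permOf n e ∈ grp n nodes := by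
    intro e he
    obtain ⟨g, hg, rfl⟩ := List.mem_map.1 he
    have := List.all_eq_true.1 hgens g hg
    simp only [Bool.and_eq_true, Nat.blt_eq] at this
    exact ⟨getN_ok hn this.1, getN_mem hn this.1⟩
  have hu : MulAction.orbit ↥(grp n nodes) (⟨L.t, ht⟩ : Fin n) = Set.univ :=
    Set.eq_of_subset_of_ncard_le (Set.subset_univ _) (by
      rw [Set.ncard_univ, Nat.card_fin]
      exact le_of_eq_of_le hk.symm (orbitOK_le _ hgs ht horb))
  exact MulAction.isPretransitive_iff_orbit_eq_univ _ |>.2 hu

end Cfsg.Agent.RigidGraph.Co2
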