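import Cfsg.Agent.Lib.RigidGraph.Co2.Pairs
import Cfsg.Agent.Lib.RigidGraph.Co2.PointData
import Cfsg.Agent.Lib.RigidGraph.Co2.MatData
import Cfsg.Agent.Lib.RigidGraph.Co2.Nodes.All

/-! The pairs and the matrices. -/

set_option autoImplicit false
set_option maxRecDepth 100000
set_option Elab.async false

namespace Cfsg.Agent.RigidGraph.Co2

theorem pairs_ok : allB (fun i => pairOK (wordA.get i) (wordB.get i)) 2300 = true := by decide +kernel

theorem keys_ok : keysOK 2300 wordA wordB keyOrd = true := by decide +kernel

theorem mats_ok : (SporPerm.matOK mat0 && SporPerm.fixOK mat0 (vecW uWord) && colsOK mat0 cols0 &&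
    (SporPerm.matOK mat1 && SporPerm.fixOK mat1 (vecW uWord) && colsOK mat1 cols1)) = true := by decide +kernel

theorem base_mem_ok : LeechMod.inLB (LeechMod.toVec (vecW (wordA.get 0))) = true := by decide +kernel

end Cfsg.Agent.RigidGraph.Co2
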